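import Cfsg.Agent.H48.E6Max.EquivData

/-!
The bracket of E₆ is equivariant for ²E₆(2).
-/

set_option autoImplicit false
set_option maxRecDepth 100000

namespace H48.E6Max

open Cfsg.Lie H52 H60.TE6 H51.E6Max

attribute [local irreducible] step rstep idY

universe u

variable {K : Type u} [Field K] [CharP K 2] {w : K}

theorem adMat_smul_sum {ι : Type*} (s : Finset ι) (a : ι → K) (v : ι → V K) :
    adMat w (∑ j ∈ s, a j • v j) = ∑ j ∈ s, a j • adMat w (v j) := by
  simp only [adMat, Finset.sum_apply, Pi.smul_apply, smul_eq_mul, Finset.sum_smul, Finset.smul_sum,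
    mul_smul]
  rw [Finset.sum_comm]

/-- A matrix carries brackets to brackets. -/
def Pres (w : K) (g : Matrix chevE6.Idx chevE6.Idx K) : Prop :=
  ∀ a : V K, adMat w (g.mulVec a) * g = g * adMat w a

theorem pres_of_cols {g : Matrix chevE6.Idx chevE6.Idx K}
    (h : ∀ j, adMat w (fun i => g i j) * g = g * toK w (adRows.getD (code chevE6 j) 0)) :
    Pres w g := by
  intro a
  have hg : g.mulVec a = ∑ j, a j • fun i => g i j := by
    ext i
    simp [Matrix.mulVec, dotProduct, Finset.sum_apply, mul_comm]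
  rw [hg, adMat_smul_sum, Finset.sum_mul]
  conv_rhs => rw [adMat, Finset.mul_sum]
  refine Finset.sum_congr rfl fun j _ => ?_
  rw [Matrix.smul_mul, h j, Matrix.mul_smul]

/-- The subgroup of bracket automorphisms. -/
noncomputable def presSub (w : K) : Subgroup (GL chevE6.Idx K) where
  carrier := {g | Pres w (g : Matrix chevE6.Idx chevE6.Idx K)}
  one_mem' := fun a => by simp
  mul_mem' := fun {g h} hg hh a => by
    rw [Units.val_mul, ← Matrix.mulVec_mulVec, ← Matrix.mul_assoc, hg, Matrix.mul_assoc, hh,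
      Matrix.mul_assoc]
  inv_mem' := fun {g} hg a => by
    have h := hg ((g⁻¹ : GL chevE6.Idx K).val.mulVec a)
    rw [Matrix.mulVec_mulVec, Units.mul_inv, Matrix.one_mulVec] at h
    calc adMat w ((g⁻¹ : GL chevE6.Idx K).val.mulVec a) * (g⁻¹ : GL chevE6.Idx K).val
        = (g⁻¹ : GL chevE6.Idx K).val *
            (g.val * adMat w ((g⁻¹ : GL chevE6.Idx K).val.mulVec a)) *
            (g⁻¹ : GL chevE6.Idx K).val := by
          rw [← Matrix.mul_assoc (g⁻¹ : GL chevE6.Idx K).val g.val, Units.inv_mul, Matrix.one_mul]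
      _ = (g⁻¹ : GL chevE6.Idx K).val * (adMat w a * g.val) * (g⁻¹ : GL chevE6.Idx K).val := by
          rw [h]
      _ = _ := by
          rw [Matrix.mul_assoc, Matrix.mul_assoc, Units.mul_inv, Matrix.mul_one]

variable (hw : w * w = w + 1)
include hw

theorem word_mem {l : List (ℕ × ℕ)} (hl : l ∈ words) : el w l ∈ presSub w := by
  have hlt := words_lt l hl
  have hG : toK w (evL l idY) = (el w l : Matrix chevE6.Idx chevE6.Idx K) := by
    rw [evL_toK hw l hlt, toK_idY, mul_one]
  have h := words_ok hl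
  simp only [equivOK, Bool.or_eq_true, List.all_eq_true, List.mem_range] at h
  rcases h with h | h
  · rw [Nat.eq_of_beq_eq_true h, toK_idY] at hG
    rw [show el w l = 1 from Units.ext hG.symm]
    exact one_mem _
  · refine pres_of_cols fun j => ?_
    have h1 := congrArg (toK w) (Nat.eq_of_beq_eq_true (h _ (code_lt j)))
    rw [toK_evR hw l hlt, toK_adColF hw, hG, evL_toK hw l hlt] at h1
    exact h1

theorem vals_all [Fintype K] (hK : Fintype.card K = 4) (t : K) : ∃ c < 4, val w c = t := by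
  have h4 := FiniteField.pow_card t
  rw [hK] at h4
  have h2 : (2 : K) = 0 := CharTwo.two_eq_zero
  obtain ⟨v0, v1, v2, v3⟩ := val_vals w
  have hp : t * (t - 1) * (t - w) * (t - (1 + w)) = 0 := by grind
  rcases mul_eq_zero.1 hp with hp | hp
  · rcases mul_eq_zero.1 hp with hp | hp
    · rcases mul_eq_zero.1 hp with hp | hp
      · exact ⟨0, by omega, by rw [v0, hp]⟩
      · exact ⟨1, by omega, by rw [v1, sub_eq_zero.1 hp]⟩
    · exact ⟨2, by omega, by rw [v2, sub_eq_zero.1 hp]⟩
  · exact ⟨3, by omega, by rw [v3, sub_eq_zero.1 hp]⟩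

omit hw in
theorem root_pos :
    ([e6p2, e6m2, e6p4, e6m4].all fun r => (List.range 4).any fun i => rootAt i == r) = true ∧
    ([(e6p1, e6p6), (e6m1, e6m6), (e6p3, e6p5), (e6m3, e6m5)].all fun rs =>
      [4, 6, 8, 10].any fun i => rootAt i == rs.1 && rootAt (i + 1) == rs.2) = true := by
  decide +kernel

/-- The twisted group preserves the bracket. -/
theorem twisted_le [Fintype K] (hK : Fintype.card K = 4) : twistedE6 K 2 ≤ presSub w := by
  rw [twistedE6, ChevalleyDatum.genSubgroup, Subgroup.closure_le]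
  rintro g ⟨l, hl, hg⟩
  have key : ∀ m : List (ℕ × ℕ), m ∈ words → kw w m = l → g ∈ presSub w := by
    intro m hm hkw
    have : g = el w m := Units.ext (by rw [hg, el, checkedE6.coe_wordRt, hkw])
    rw [this]
    exact word_mem hw hm
  obtain ⟨hs, hp⟩ := root_pos
  simp only [List.all_eq_true, List.any_eq_true, Bool.and_eq_true, beq_iff_eq] at hs hp
  rcases hl with ⟨t, ht, r, hr, rfl⟩ | ⟨t, rs, hrs, rfl⟩
  · obtain ⟨i, hi, rfl⟩ := hs r hr
    obtain ⟨c, hc, rfl⟩ : ∃ c < 2, val w c = t := by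
      obtain ⟨v0, v1, -, -⟩ := val_vals w
      have h : t * (t - 1) = 0 := by rw [mul_sub, mul_one, ← sq, ht, sub_self]
      rcases mul_eq_zero.1 h with h | h
      · exact ⟨0, by omega, by rw [v0, h]⟩
      · exact ⟨1, by omega, by rw [v1, sub_eq_zero.1 h]⟩
    refine key [(i, c)] ?_ (by simp [kw])
    simp only [words, List.mem_append, List.mem_flatMap, List.mem_map, List.mem_range]
    exact .inl ⟨i, List.mem_range.1 hi, c, hc, rfl⟩
  · obtain ⟨i, hi, h1, h2⟩ := hp rs hrs
    obtain ⟨c, hc, rfl⟩ := vals_all hw hK t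
    refine key [(i, c), (i + 1, pwc c 2)] ?_ (by simp [kw, h1, h2, (val_pwc hw hc 2).2])
    simp only [words, List.mem_append, List.mem_flatMap, List.mem_map, List.mem_range]
    exact .inr ⟨i, hi, c, hc, rfl⟩

/-- The bracket is equivariant for ²E₆(2). -/
theorem equiv [Fintype K] (hK : Fintype.card K = 4) {g : GL chevE6.Idx K} (hg : g ∈ twistedE6 K 2)
    (a b : V K) :
    bra w ((g : Matrix chevE6.Idx chevE6.Idx K).mulVec a)
        ((g : Matrix chevE6.Idx chevE6.Idx K).mulVec b) =
      (g : Matrix chevE6.Idx chevE6.Idx K).mulVec (bra w a b) := by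
  rw [bra, bra, Matrix.mulVec_mulVec, Matrix.mulVec_mulVec, twisted_le hw hK hg a]

end H48.E6Max
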