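import Cfsg.Agent.H48.E6Max.Fast

/-!
The bracket of E₆ commutes with the generating words of ²E₆(2): the finite check.
-/

set_option autoImplicit false
set_option maxRecDepth 100000

namespace H48.E6Max

open Cfsg.Lie H52 H60.TE6 H51.E6Max

/-- The generating words, by positions. -/
def words : List (List (ℕ × ℕ)) :=
  ((List.range 4).flatMap fun i => (List.range 2).map fun c => [(i, c)]) ++
    ([4, 6, 8, 10].flatMap fun i => (List.range 4).map fun c => [(i, c), (i + 1, pwc c 2)])

/-- A word is the identity or carries the bracket of every column to the bracket. -/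
def equivOK (l : List (ℕ × ℕ)) : Bool :=
  let G := evL l idY
  Nat.beq G idY ||
    (List.range 78).all fun j => Nat.beq (evR l (adColF G j)) (evL l (adRows.getD j 0))

theorem words_lt : ∀ l ∈ words, ∀ p ∈ l, p.1 < 12 ∧ p.2 < 4 := by decide +kernel

theorem equiv0 : ∀ k < 8, equivOK (words.getD k []) = true := by decide +kernel

theorem equiv1 : ∀ k < 4, equivOK (words.getD (8 + k) []) = true := by decide +kernel

theorem equiv2 : ∀ k < 4, equivOK (words.getD (12 + k) []) = true := by decide +kernel

theorem equiv3 : ∀ k < 4, equivOK (words.getD (16 + k) []) = true := by decide +kernel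

theorem equiv4 : ∀ k < 4, equivOK (words.getD (20 + k) []) = true := by decide +kernel

theorem words_ok {l : List (ℕ × ℕ)} (hl : l ∈ words) : equivOK l = true := by
  obtain ⟨k, hk, rfl⟩ := List.getElem_of_mem hl
  have h24 : k < 24 := hk
  rw [← List.getD_eq_getElem words [] hk]
  by_cases h0 : k < 8
  · exact equiv0 k h0
  by_cases h1 : k < 12
  · have := equiv1 (k - 8) (by omega); rwa [show 8 + (k - 8) = k by omega] at this
  by_cases h2 : k < 16
  · have := equiv2 (k - 12) (by omega); rwa [show 12 + (k - 12) = k by omega] at this
  by_cases h3 : k < 20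
  · have := equiv3 (k - 16) (by omega); rwa [show 16 + (k - 16) = k by omega] at this
  have := equiv4 (k - 20) (by omega); rwa [show 20 + (k - 20) = k by omega] at this

end H48.E6Max
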