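import Cfsg.Agent.H48.E6Max.Lin

/-!
Fast operations on packed matrices: scaling by planes and right multiplication by root elements.
-/

set_option autoImplicit false
set_option maxRecDepth 100000

namespace H48.E6Max

open Cfsg.Lie H52 H60.TE6 H51.E6Max

/-- A one at the start of every row. -/
def colMask : ℕ := ((List.range 78).map fun m => 1 <<< (156 * m)).foldr (· ^^^ ·) 0

/-- The low plane of every row. -/
def lowMask : ℕ :=
  ((List.range 78).map fun m => (2 ^ 78 - 1) <<< (156 * m)).foldr (· ^^^ ·) 0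

/-- A code times a pair of planes, written at a place. -/
def putPl (c j lo hi : ℕ) : ℕ :=
  match c with
  | 1 => (lo <<< j) ^^^ (hi <<< (78 + j))
  | 2 => (hi <<< j) ^^^ ((lo ^^^ hi) <<< (78 + j))
  | 3 => ((lo ^^^ hi) <<< j) ^^^ (lo <<< (78 + j))
  | _ => 0

/-- A scalar times a packed matrix, by planes. -/
def scaleW (c Y : ℕ) : ℕ := putPl c 0 (Y &&& lowMask) ((Y >>> 78) &&& lowMask)

/-- A scalar times a column, moved to another place. -/
def moveCol (c i j Y : ℕ) : ℕ :=
  putPl c j ((Y >>> i) &&& colMask) ((Y >>> (78 + i)) &&& colMask)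

/-- Right multiplication by a root element. -/
def rstep (tab : List (ℕ × ℕ × ℕ)) (t Y : ℕ) : ℕ :=
  tab.foldl (fun acc e => acc ^^^ moveCol (pwc t e.2.2) e.1 e.2.1 Y) Y

/-- Right multiplication by a word in root elements. -/
def evR (l : List (ℕ × ℕ)) (Y : ℕ) : ℕ := l.foldl (fun Z p => rstep (tabAt p.1) p.2 Z) Y

/-- The bracket matrix of a column, by planes. -/
def adColF (B c : ℕ) : ℕ :=
  (List.range 78).foldl (fun acc j => acc ^^^ scaleW (ent B j c) (adRows.getD j 0)) 0

theorem colMask_rows : ∀ m < 78, rowOf colMask m = 1 := by decide +kernel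

theorem lowMask_rows : ∀ m < 78, rowOf lowMask m = 2 ^ 78 - 1 := by decide +kernel

theorem range_sum_mat {M : Type*} [AddCommMonoid M] (f : ℕ → M) :
    ((List.range 78).map f).sum = ∑ z : chevE6.Idx, f (code chevE6 z) := by
  rw [← List.sum_toFinset _ List.nodup_range, List.toFinset_range]
  have himg : (Finset.univ : Finset chevE6.Idx).image (code chevE6) = Finset.range 78 := by
    apply Finset.eq_of_subset_of_card_le
    · intro a ha
      obtain ⟨z, -, rfl⟩ := Finset.mem_image.1 ha
      exact Finset.mem_range.2 (code_lt z)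
    · rw [Finset.card_image_of_injective _ code_injective, Finset.card_range, Finset.card_univ,
        Fintype.card_sum, Fintype.card_fin, Fintype.card_fin]
      rfl
  rw [← himg, Finset.sum_image fun a _ b _ h => code_injective h]

theorem tab_bounds : ∀ i < 12, ∀ e ∈ tabAt i, e.1 < 78 ∧ e.2.1 < 78 := by decide +kernel

theorem mask_bit {M r : ℕ} (hM : ∀ m < 78, rowOf M m = r) {m k : ℕ} (hm : m < 78) (hk : k < 156) :
    M.testBit (156 * m + k) = r.testBit k := by
  rw [← rowOf_bit _ _ _ hk, hM m hm]

theorem colMask_bit {m k : ℕ} (hm : m < 78) (hk : k < 156) :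
    colMask.testBit (156 * m + k) = decide (k = 0) := by
  rw [mask_bit colMask_rows hm hk, show (1 : ℕ) = 2 ^ 0 from rfl, Nat.testBit_two_pow]
  simp [eq_comm]

theorem lowMask_bit {m k : ℕ} (hm : m < 78) (hk : k < 156) :
    lowMask.testBit (156 * m + k) = decide (k < 78) := by
  rw [mask_bit lowMask_rows hm hk, Nat.testBit_two_pow_sub_one]

universe u

variable {K : Type u} [Field K] [CharP K 2] {w : K}

/-- Planes supported at the start of each row below `n`. -/
def LowSupp (n A : ℕ) : Prop := ∀ m < 78, ∀ k < 156, n ≤ k → A.testBit (156 * m + k) = false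

theorem plane_bit {n A : ℕ} (hA : LowSupp n A) {j : ℕ} (hj : n + j ≤ 156) {m k : ℕ} (hm : m < 78)
    (hk : k < 156) :
    (A <<< j).testBit (156 * m + k) = (decide (j ≤ k) && A.testBit (156 * m + (k - j))) := by
  rw [Nat.testBit_shiftLeft]
  by_cases h : j ≤ k
  · rw [show 156 * m + k - j = 156 * m + (k - j) by omega]
    simp [h, show j ≤ 156 * m + k by omega]
  · simp only [h, decide_false, Bool.false_and, Bool.and_eq_false_iff, decide_eq_false_iff_not]
    by_cases h' : j ≤ 156 * m + k
    · right
      obtain ⟨m', rfl⟩ : ∃ m', m = m' + 1 := ⟨m - 1, by omega⟩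
      rw [show 156 * (m' + 1) + k - j = 156 * m' + (156 + k - j) by omega]
      exact hA m' (by omega) _ (by omega) (by omega)
    · left; omega

theorem rv_pair {n A B : ℕ} (hA : LowSupp n A) (hB : LowSupp n B) {j : ℕ} (hj : n + j ≤ 78)
    {m k : ℕ} (hm : m < 78) (hk : k < 78) :
    rv w (rowOf ((A <<< j) ^^^ (B <<< (78 + j))) m) k =
      if j ≤ k ∧ k < j + n then
        b2k K (A.testBit (156 * m + (k - j))) + b2k K (B.testBit (156 * m + (k - j))) * w
      else 0 := by
  rw [rv, rowOf_bit _ _ _ (by omega), rowOf_bit _ _ _ (by omega), Nat.testBit_xor, Nat.testBit_xor,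
    plane_bit hA (by omega) hm (by omega), plane_bit hA (by omega) hm (by omega),
    plane_bit hB (by omega) hm (by omega), plane_bit hB (by omega) hm (by omega)]
  have e1 : decide (78 + j ≤ k) = false := by simp; omega
  rw [e1, Bool.false_and, Bool.xor_false]
  have e2 : decide (j ≤ 78 + k) = true := by simp; omega
  have e3 : A.testBit (156 * m + (78 + k - j)) = false := hA m hm _ (by omega) (by omega)
  rw [e2, e3, Bool.true_and, Bool.false_xor, show decide (78 + j ≤ 78 + k) = decide (j ≤ k) by simp]
  by_cases h : j ≤ k ∧ k < j + n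
  · rw [if_pos h, show 78 + k - (78 + j) = k - j by omega]
    simp [h.1]
  · rw [if_neg h]
    by_cases h' : j ≤ k
    · rw [show 78 + k - (78 + j) = k - j by omega, hA m hm _ (by omega) (by omega),
        hB m hm _ (by omega) (by omega)]
      simp [b2k]
    · simp [h', b2k]

theorem LowSupp.xor {n A B : ℕ} (hA : LowSupp n A) (hB : LowSupp n B) : LowSupp n (A ^^^ B) :=
  fun m hm k hk hn => by rw [Nat.testBit_xor, hA m hm k hk hn, hB m hm k hk hn]; rfl

variable (hw : w * w = w + 1)
include hw

theorem rv_putPl {n lo hi : ℕ} (hA : LowSupp n lo) (hB : LowSupp n hi) {j : ℕ} (hj : n + j ≤ 78)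
    {c : ℕ} (hc : c < 4) {m k : ℕ} (hm : m < 78) (hk : k < 78) :
    rv w (rowOf (putPl c j lo hi) m) k = val w c *
      if j ≤ k ∧ k < j + n then
        b2k K (lo.testBit (156 * m + (k - j))) + b2k K (hi.testBit (156 * m + (k - j))) * w
      else 0 := by
  obtain ⟨v0, v1, v2, v3⟩ := val_vals w
  have h2 : (2 : K) = 0 := CharTwo.two_eq_zero
  interval_cases c
  · rw [v0, zero_mul, putPl]
    · rw [rowOf_zero, rv_zero]
    all_goals decide
  · rw [v1, one_mul, putPl, rv_pair hA hB hj hm hk]
  · rw [v2, putPl, rv_pair hB (hA.xor hB) hj hm hk]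
    split_ifs
    · rw [Nat.testBit_xor, b2k_xor]; grind
    · simp
  · rw [v3, putPl, rv_pair (hA.xor hB) hA hj hm hk]
    split_ifs
    · rw [Nat.testBit_xor, b2k_xor]; grind
    · simp

theorem toK_scaleW {c : ℕ} (hc : c < 4) (Y : ℕ) : toK w (scaleW c Y) = val w c • toK w Y := by
  ext x y
  have hm : code chevE6 x < 78 := code_lt x
  have hk : code chevE6 y < 78 := code_lt y
  have hl : ∀ Z : ℕ, LowSupp 78 (Z &&& lowMask) := fun Z m hm k hk hn => by
    rw [Nat.testBit_land, lowMask_bit hm hk, show decide (k < 78) = false by simp; omega,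
      Bool.and_false]
  rw [toK_apply, scaleW, rv_putPl hw (hl _) (hl _) le_rfl hc hm hk, if_pos ⟨Nat.zero_le _, by omega⟩,
    Nat.sub_zero, Nat.testBit_land, Nat.testBit_land, lowMask_bit hm (by omega),
    Nat.testBit_shiftRight, Matrix.smul_apply, smul_eq_mul, toK_apply, rv,
    rowOf_bit _ _ _ (by omega), rowOf_bit _ _ _ (by omega)]
  rw [show decide (code chevE6 y < 78) = true by simp [hk], Bool.and_true, Bool.and_true,
    show 78 + (156 * code chevE6 x + code chevE6 y) = 156 * code chevE6 x + (78 + code chevE6 y) by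
      omega]

theorem rv_moveCol {c i j : ℕ} (hc : c < 4) (hi : i < 78) (hj : j < 78) (Y : ℕ) {m k : ℕ}
    (hm : m < 78) (hk : k < 78) :
    rv w (rowOf (moveCol c i j Y) m) k =
      val w c * if k = j then rv w (rowOf Y m) i else 0 := by
  have hl : ∀ Z : ℕ, LowSupp 1 (Z &&& colMask) := fun Z m hm k hk hn => by
    rw [Nat.testBit_land, colMask_bit hm hk, show decide (k = 0) = false by simp; omega,
      Bool.and_false]
  rw [moveCol, rv_putPl hw (hl _) (hl _) (by omega) hc hm hk]
  by_cases h : k = j
  · subst h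
    rw [if_pos ⟨le_rfl, by omega⟩, if_pos rfl, Nat.sub_self, Nat.add_zero, Nat.testBit_land,
      Nat.testBit_land, show colMask.testBit (156 * m) = true by
        have := colMask_bit hm (show (0 : ℕ) < 156 by norm_num)
        simpa using this,
      Bool.and_true, Bool.and_true, Nat.testBit_shiftRight, Nat.testBit_shiftRight, rv,
      rowOf_bit _ _ _ (by omega), rowOf_bit _ _ _ (by omega),
      show i + 156 * m = 156 * m + i by omega, show 78 + i + 156 * m = 156 * m + (78 + i) by omega]
  · rw [if_neg (by omega), if_neg h]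

theorem toK_rstep {i t : ℕ} (hi : i < 12) (ht : t < 4) (Y : ℕ) :
    toK w (rstep (tabAt i) t Y) = toK w Y * chevE6.x K (rootAt i) (val w t) := by
  have hX : chevE6.x K (rootAt i) (val w t) = toK w (step (tabAt i) t idY) := by
    rw [step_toK hw (roots_lt _ hi) _ (tabs_ok _ hi) (heads_ok hi) ht, toK_idY, mul_one]
  ext x y
  have hm : code chevE6 x < 78 := code_lt x
  have hk : code chevE6 y < 78 := code_lt y
  rw [hX, Matrix.mul_apply, toK_apply, rstep, rv_foldl]
  have hz : ∀ z : chevE6.Idx, toK w Y x z * toK w (step (tabAt i) t idY) z y =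
      (if z = y then toK w Y x z else 0) + ((tabAt i).map fun e =>
        if e.1 = code chevE6 z ∧ code chevE6 y = e.2.1 then
          val w t ^ e.2.2 * toK w Y x z else 0).sum := by
    intro z
    rw [toK_apply w (step (tabAt i) t idY), step, rowOf_xor, rv_xor, delta_rv hw ht idY hk, mul_add]
    congr 1
    · rw [← toK_apply, toK_idY]
      by_cases h : z = y
      · subst h; simp
      · simp [h]
    · rw [← List.sum_map_mul_left]
      refine congrArg List.sum (List.map_congr_left fun e he => ?_)
      obtain ⟨-, h2⟩ := tab_bounds i hi e he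
      obtain ⟨y', hy'⟩ := exists_code h2
      by_cases h : e.1 = code chevE6 z
      · rw [if_pos h, ← hy', ← toK_apply, toK_idY]
        by_cases h' : y' = y
        · subst h'; rw [Matrix.one_apply_eq, if_pos ⟨h, rfl⟩]; ring
        · rw [Matrix.one_apply_ne h', if_neg (fun e => h' (code_injective e.2.symm))]; ring
      · rw [if_neg h, if_neg (fun e' => h e'.1), mul_zero]
  rw [Finset.sum_congr rfl fun z _ => hz z, Finset.sum_add_distrib, Finset.sum_ite_eq']
  simp only [Finset.mem_univ, if_true, toK_apply]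
  congr 1
  have swap : ∀ (L : List (ℕ × ℕ × ℕ)) (f : chevE6.Idx → ℕ × ℕ × ℕ → K),
      ∑ z, (L.map (f z)).sum = (L.map fun e => ∑ z, f z e).sum := by
    intro L f
    induction L with
    | nil => simp
    | cons a L ih => simp [Finset.sum_add_distrib, ih]
  rw [swap]
  refine congrArg List.sum (List.map_congr_left fun e he => ?_)
  obtain ⟨h1, h2⟩ := tab_bounds i hi e he
  obtain ⟨z₀, hz₀⟩ := exists_code h1
  obtain ⟨h3, h4⟩ := val_pwc hw ht e.2.2
  rw [rv_moveCol hw h3 h1 h2 Y hm hk, h4, Finset.sum_eq_single z₀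
    (fun z _ hz => if_neg fun h => hz (code_injective (h.1.symm.trans hz₀.symm)))
    (fun h => absurd (Finset.mem_univ _) h), hz₀]
  by_cases h : code chevE6 y = e.2.1
  · rw [if_pos h, if_pos ⟨rfl, h⟩]
  · rw [if_neg h, if_neg fun h' => h h'.2, mul_zero]

theorem toK_evR : ∀ (l : List (ℕ × ℕ)), (∀ p ∈ l, p.1 < 12 ∧ p.2 < 4) → ∀ Y : ℕ,
    toK w (evR l Y) = toK w Y * (el w l : Matrix chevE6.Idx chevE6.Idx K) := by
  intro l
  induction l with
  | nil => intro _ Y; simp [evR, el, kw, wordRt]
  | cons p l ih =>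
    intro h Y
    obtain ⟨h1, h2⟩ := h p List.mem_cons_self
    show toK w (evR l (rstep (tabAt p.1) p.2 Y)) = _
    rw [ih (fun q hq => h q (List.mem_cons_of_mem _ hq)), toK_rstep hw h1 h2, el, el,
      checkedE6.coe_wordRt, checkedE6.coe_wordRt, kw, kw, List.map_cons, mul_assoc]
    rfl

theorem toK_adColF (B : ℕ) (j : chevE6.Idx) :
    toK w (adColF B (code chevE6 j)) = adMat w (fun i => toK w B i j) := by
  rw [adColF, toK_foldl, adMat]
  have h : ((List.range 78).map fun i => toK w (scaleW (ent B i (code chevE6 j)) (adRows.getD i 0))) =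
      (List.range 78).map fun i => val w (ent B i (code chevE6 j)) • toK w (adRows.getD i 0) :=
    List.map_congr_left fun i _ => toK_scaleW hw (rent_lt _ _) _
  rw [h, range_sum_mat]
  refine Finset.sum_congr rfl fun i _ => ?_
  rw [ent, val_rent, ← toK_apply]

end H48.E6Max
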