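import Cfsg.Agent.H51.E6Max.Defs

/-!
Packed matrices over the field with four elements as matrices: products, sums, brackets and zero
tests.
-/

set_option autoImplicit false
set_option maxRecDepth 100000

namespace H48.E6Max

open Cfsg.Lie H52 H60.TE6 H51.E6Max

attribute [local irreducible] scale

universe u

variable {K : Type u} [Field K] [CharP K 2] {w : K}

omit [CharP K 2] in
theorem rowOf_zero (i : ℕ) : rowOf 0 i = 0 := by simp [rowOf]

theorem rowOf_self {R : ℕ} (hR : R < 2 ^ 156) : rowOf R 0 = R := by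
  rw [rowOf, Nat.mul_zero, Nat.shiftRight_zero, Nat.mod_eq_of_lt hR]

/-- Rows of an iterated sum. -/
theorem rv_foldl {α : Type*} (f : α → ℕ) (i k : ℕ) : ∀ (L : List α) (a : ℕ),
    rv w (rowOf (L.foldl (fun acc x => acc ^^^ f x) a) i) k =
      rv w (rowOf a i) k + (L.map fun x => rv w (rowOf (f x) i) k).sum
  | [], a => by simp
  | x :: L, a => by
    rw [List.foldl_cons, rv_foldl f i k L, rowOf_xor, rv_xor, List.map_cons, List.sum_cons]
    ring

omit [CharP K 2] in
theorem foldl_lt {α : Type*} (f : α → ℕ) (hf : ∀ x, f x < 2 ^ 156) : ∀ (L : List α) (a : ℕ),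
    a < 2 ^ 156 → L.foldl (fun acc x => acc ^^^ f x) a < 2 ^ 156
  | [], a, h => h
  | x :: L, a, h => foldl_lt f hf L _ (Nat.xor_lt_two_pow h (hf x))

omit [CharP K 2] in
theorem range_sum (f : ℕ → K) :
    ((List.range 78).map f).sum = ∑ z : chevE6.Idx, f (code chevE6 z) := by
  rw [← List.sum_toFinset _ List.nodup_range, List.toFinset_range]
  have himg : (Finset.univ : Finset chevE6.Idx).image (code chevE6) = Finset.range 78 := by
    apply Finset.eq_of_subset_of_card_le
    · intro a ha
      obtain ⟨z, -, rfl⟩ := Finset.mem_image.1 ha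
      exact Finset.mem_range.2 (code_lt z)
    · rw [Finset.card_image_of_injective _ code_injective, Finset.card_range, Finset.card_univ,
        Fintype.card_sum, Fintype.card_fin, Fintype.card_fin]
      rfl
  rw [← himg, Finset.sum_image fun a _ b _ h => code_injective h]

omit [CharP K 2] in
theorem exists_code {i : ℕ} (hi : i < 78) : ∃ x : chevE6.Idx, code chevE6 x = i := by
  by_cases h : i < 72
  · exact ⟨.inr ⟨i, h⟩, rfl⟩
  · exact ⟨.inl ⟨i - 72, show i - 72 < 6 by omega⟩, show 72 + (i - 72) = i by omega⟩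

theorem rent_lt (R k : ℕ) : rent R k < 4 := by
  unfold rent
  cases R.testBit k <;> cases R.testBit (78 + k) <;> simp

omit [CharP K 2] in
theorem toK_apply (w : K) (Y : ℕ) (x y : chevE6.Idx) :
    toK w Y x y = rv w (rowOf Y (code chevE6 x)) (code chevE6 y) := rfl

theorem toK_add (A B : ℕ) : toK w (A ^^^ B) = toK w A + toK w B := by
  ext x y
  rw [Matrix.add_apply, toK_apply, toK_apply, toK_apply, rowOf_xor, rv_xor]

omit [CharP K 2] in
theorem toK_zero : toK w 0 = 0 := by
  ext x y
  rw [toK_apply, rowOf_zero, rv_zero, Matrix.zero_apply]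

/-- The rows all vanish. -/
def zeroB (A : ℕ) : Bool := (List.range 78).all fun i => Nat.beq (rowOf A i) 0

/-- Some entry is not zero. -/
def nzB (A : ℕ) : Bool :=
  (List.range 78).any fun i => (List.range 78).any fun k => !Nat.beq (ent A i k) 0

omit [CharP K 2] in
theorem toK_of_zeroB {A : ℕ} (h : zeroB A = true) : toK w A = 0 := by
  simp only [zeroB, List.all_eq_true, List.mem_range] at h
  ext x y
  rw [toK_apply, Nat.eq_of_beq_eq_true (h _ (code_lt x)), rv_zero, Matrix.zero_apply]

variable (hw : w * w = w + 1)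
include hw

theorem toK_ne_of_nzB {A : ℕ} (h : nzB A = true) : toK w A ≠ 0 := by
  simp only [nzB, List.any_eq_true, List.mem_range, Bool.not_eq_true'] at h
  obtain ⟨i, hi, k, hk, hne⟩ := h
  obtain ⟨x, hx⟩ := exists_code hi
  obtain ⟨y, hy⟩ := exists_code hk
  intro e
  have h2 : val w (ent A i k) = 0 := by
    rw [ent, val_rent, ← hx, ← hy, ← toK_apply, e, Matrix.zero_apply]
  exact Nat.ne_of_beq_eq_false hne (val_eq_zero hw (rent_lt _ _) h2)

theorem combRow_lt (R B : ℕ) : combRow R B < 2 ^ 156 :=
  foldl_lt _ (fun k => scale_lt _ (rowOf_lt B k)) _ _ (Nat.two_pow_pos _)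

theorem combRow_rv (R B : ℕ) {k : ℕ} (hk : k < 78) :
    rv w (combRow R B) k = ∑ z : chevE6.Idx,
      rv w R (code chevE6 z) * rv w (rowOf B (code chevE6 z)) k := by
  have h := rv_foldl (w := w) (fun j => scale (rent R j) (rowOf B j)) 0 k (List.range 78) 0
  have hlt := combRow_lt hw R B
  rw [combRow] at hlt ⊢
  rw [rowOf_self hlt, rowOf_zero, rv_zero, zero_add] at h
  rw [h, range_sum]
  refine Finset.sum_congr rfl fun z _ => ?_
  rw [rowOf_self (scale_lt _ (rowOf_lt _ _)), rv_scale hw (rent_lt _ _) (rowOf_lt _ _) hk, val_rent]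

omit [CharP K 2] hw in
theorem rowMask_rows : ∀ m < 78, rowOf rowMask m = 1 := by decide +kernel

omit [CharP K 2] hw in
/-- A spread column of bits times a row. -/
theorem rowOf_spread_mul {R : ℕ} (hR : R < 2 ^ 156) : ∀ (m M : ℕ), (∀ j ≤ m, rowOf M j ≤ 1) →
    rowOf (M * R) m = rowOf M m * R
  | 0, M, h => by
    have hb := h 0 le_rfl
    simp only [rowOf, Nat.mul_zero, Nat.shiftRight_zero] at hb ⊢
    rw [Nat.mul_mod, Nat.mod_eq_of_lt hR, Nat.mod_eq_of_lt]
    calc M % 2 ^ 156 * R ≤ 1 * R := Nat.mul_le_mul_right R hb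
      _ < _ := by rwa [one_mul]
  | m + 1, M, h => by
    have hb := h 0 (Nat.zero_le _)
    have hs : ∀ X j : ℕ, rowOf X (j + 1) = rowOf (X / 2 ^ 156) j := fun X j => by
      rw [rowOf, rowOf, ← Nat.shiftRight_eq_div_pow, ← Nat.shiftRight_add, Nat.mul_succ, add_comm]
    simp only [rowOf, Nat.mul_zero, Nat.shiftRight_zero] at hb
    have hd : M * R / 2 ^ 156 = M / 2 ^ 156 * R := by
      have hlt : M % 2 ^ 156 * R < 2 ^ 156 :=
        lt_of_le_of_lt (Nat.mul_le_mul_right R hb) (by rwa [one_mul])
      conv_lhs => rw [← Nat.mod_add_div M (2 ^ 156), add_mul, mul_assoc,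
        Nat.add_mul_div_left _ _ (Nat.two_pow_pos _), Nat.div_eq_of_lt hlt, zero_add]
    rw [hs, hd, hs, rowOf_spread_mul hR m _ fun j hj => by rw [← hs]; exact h _ (by omega)]

omit [CharP K 2] hw in
theorem rowOf_masked (Z : ℕ) {m : ℕ} (hm : m < 78) :
    rowOf (Z &&& rowMask) m = bif Z.testBit (156 * m) then 1 else 0 := by
  apply Nat.eq_of_testBit_eq
  intro k
  by_cases hk : k < 156
  · rw [rowOf_bit _ _ _ hk, Nat.testBit_land, ← rowOf_bit rowMask m k hk, rowMask_rows m hm]
    rcases Nat.eq_zero_or_pos k with rfl | hk0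
    · cases h : Z.testBit (156 * m) <;> simp [h]
    · have h1 : Nat.testBit 1 k = false := Nat.testBit_lt_two_pow (Nat.one_lt_two_pow (by omega))
      rw [h1, Bool.and_false]
      cases Z.testBit (156 * m) <;> simp [h1]
  · rw [high_bit (rowOf_lt _ _) (by omega)]
    cases Z.testBit (156 * m)
    · simp
    · exact (Nat.testBit_lt_two_pow (Nat.one_lt_two_pow (by omega))).symm

omit hw in
theorem rv_masked_mul (Z : ℕ) {R : ℕ} (hR : R < 2 ^ 156) {m : ℕ} (hm : m < 78) (k : ℕ) :
    rv w (rowOf ((Z &&& rowMask) * R) m) k = b2k K (Z.testBit (156 * m)) * rv w R k := by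
  rw [rowOf_spread_mul hR m _ fun j hj => by
    rw [rowOf_masked Z (by omega)]; cases Z.testBit (156 * j) <;> simp, rowOf_masked Z hm]
  cases Z.testBit (156 * m) <;> simp [b2k, rv_zero]

theorem toK_mulP (A B : ℕ) : toK w (mulP A B) = toK w A * toK w B := by
  ext x y
  have hm : code chevE6 x < 78 := code_lt x
  rw [toK_apply, mulP, rv_foldl, rowOf_zero, rv_zero, zero_add, range_sum, Matrix.mul_apply]
  refine Finset.sum_congr rfl fun z _ => ?_
  rw [rowOf_xor, rv_xor, rv_masked_mul _ (rowOf_lt _ _) hm,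
    rv_masked_mul _ (scale_lt _ (rowOf_lt _ _)) hm,
    rv_scale hw (by decide : 2 < 4) (rowOf_lt _ _) (code_lt y), (val_vals w).2.2.1,
    Nat.testBit_shiftRight, Nat.testBit_shiftRight, toK_apply w A, toK_apply w B]
  have hz : code chevE6 z < 78 := code_lt z
  have hA : rv w (rowOf A (code chevE6 x)) (code chevE6 z) =
      b2k K (A.testBit (code chevE6 z + 156 * code chevE6 x)) +
        b2k K (A.testBit (78 + code chevE6 z + 156 * code chevE6 x)) * w := by
    rw [rv, rowOf_bit _ _ _ (by omega), rowOf_bit _ _ _ (by omega),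
      show code chevE6 z + 156 * code chevE6 x = 156 * code chevE6 x + code chevE6 z by omega,
      show 78 + code chevE6 z + 156 * code chevE6 x = 156 * code chevE6 x + (78 + code chevE6 z) by
        omega]
  rw [hA]
  ring

theorem toK_scaleP {c : ℕ} (hc : c < 4) (A : ℕ) : toK w (scaleP c A) = val w c • toK w A := by
  ext x y
  rw [toK_apply, scaleP, rv_foldl, rowOf_zero, rv_zero, zero_add, range_sum,
    Finset.sum_eq_single x, rowOf_shl (scale_lt _ (rowOf_lt _ _)), if_pos rfl,
    rv_scale hw hc (rowOf_lt _ _) (code_lt y), Matrix.smul_apply, smul_eq_mul]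
  · rfl
  · intro z _ hz
    rw [rowOf_shl (scale_lt _ (rowOf_lt _ _)), if_neg fun e => hz (code_injective e), rv_zero]
  · exact fun h => absurd (Finset.mem_univ x) h

omit hw in
theorem toK_foldl {α : Type*} (f : α → ℕ) (L : List α) :
    toK w (L.foldl (fun acc x => acc ^^^ f x) 0) = (L.map fun x => toK w (f x)).sum := by
  suffices h : ∀ a, toK w (L.foldl (fun acc x => acc ^^^ f x) a) =
      toK w a + (L.map fun x => toK w (f x)).sum by
    rw [h 0, toK_zero, zero_add]
  induction L with
  | nil => intro a; simp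
  | cons x L ih =>
    intro a
    rw [List.foldl_cons, ih, toK_add, List.map_cons, List.sum_cons, add_assoc]

theorem toK_adCol (B : ℕ) (j : chevE6.Idx) :
    toK w (adCol B (code chevE6 j)) = adMat w (fun i => toK w B i j) := by
  rw [adCol, toK_foldl, adMat]
  have h : ((List.range 78).map fun i => toK w (scaleP (ent B i (code chevE6 j)) (adRows.getD i 0))) =
      (List.range 78).map fun i => val w (ent B i (code chevE6 j)) • toK w (adRows.getD i 0) :=
    List.map_congr_left fun i _ => toK_scaleP hw (rent_lt _ _) _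
  rw [h, ← List.sum_toFinset _ List.nodup_range, List.toFinset_range]
  have himg : (Finset.univ : Finset chevE6.Idx).image (code chevE6) = Finset.range 78 := by
    apply Finset.eq_of_subset_of_card_le
    · intro a ha
      obtain ⟨z, -, rfl⟩ := Finset.mem_image.1 ha
      exact Finset.mem_range.2 (code_lt z)
    · rw [Finset.card_image_of_injective _ code_injective, Finset.card_range, Finset.card_univ,
        Fintype.card_sum, Fintype.card_fin, Fintype.card_fin]
      rfl
  rw [← himg, Finset.sum_image fun a _ b _ h => code_injective h]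
  refine Finset.sum_congr rfl fun i _ => ?_
  rw [ent, val_rent, ← toK_apply]

end H48.E6Max
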